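import Mathlib.LinearAlgebra.LinearIndependent.Lemmas
import Mathlib.RingTheory.Finiteness.Basic
import Mathlib.Algebra.Module.Torsion.Free
import Mathlib.LinearAlgebra.Dual.Lemmas

/-!
Finite torsion-free modules over a domain embed in finite free modules.
-/

set_option autoImplicit false
universe u v

namespace GrothLib

variable (R : Type u) [CommRing R] [IsDomain R] (M : Type v) [AddCommGroup M] [Module R M] [Module.Finite R M]

/-- A finite torsion free module over a domain embeds into a finite free module. -/
theorem exists_injective_pi_of_isTorsionFree [Module.IsTorsionFree R M] :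
    ∃ (n : ℕ) (f : M →ₗ[R] (Fin n → R)), Function.Injective f := by
  classical
  obtain ⟨N, v, hv⟩ := Module.Finite.exists_fin (R := R) (M := M)
  obtain ⟨s, hli, hmax⟩ := exists_maximal_linearIndepOn R v
  let S := Submodule.span R (v '' s)
  have hc : ∀ i, ∃ a : R, a ≠ 0 ∧ a • v i ∈ S := fun i => by
    by_cases hi : i ∈ s
    · exact ⟨1, one_ne_zero, by rw [one_smul]; exact Submodule.subset_span ⟨i, hi, rfl⟩⟩
    · exact hmax i hi
  choose a ha haS using hc
  let c := ∏ i, a i
  have hc0 : c ≠ 0 := Finset.prod_ne_zero_iff.2 fun i _ => ha i
  have hcS : ∀ m : M, c • m ∈ S := by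
    intro m
    have hm : m ∈ Submodule.span R (Set.range v) := hv ▸ Submodule.mem_top
    induction hm using Submodule.span_induction with
    | mem x hx =>
      obtain ⟨i, rfl⟩ := hx
      obtain ⟨d, hd⟩ := Finset.dvd_prod_of_mem a (Finset.mem_univ i)
      rw [show c = a i * d from hd, mul_comm, mul_smul]
      exact Submodule.smul_mem _ _ (haS i)
    | zero => simp
    | add x y _ _ hx hy => rw [smul_add]; exact Submodule.add_mem _ hx hy
    | smul r x _ hx => rw [smul_comm]; exact Submodule.smul_mem _ _ hx
  have hS : S = Submodule.span R (Set.range fun i : s => v i) :=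
    congrArg (Submodule.span R) (Set.image_eq_range v s)
  let b : Module.Basis s R S := (Module.Basis.span hli).map (LinearEquiv.ofEq _ _ hS.symm)
  let e : S ≃ₗ[R] (Fin (Fintype.card s) → R) :=
    (b.reindex (Fintype.equivFin s)).equivFun
  refine ⟨_, e.toLinearMap.comp ((LinearMap.lsmul R M c).codRestrict S hcS), ?_⟩
  intro x y h
  have h1 := congrArg Subtype.val (e.injective h)
  exact smul_right_injective M hc0 h1

/-- Over a domain, a finite module maps injectively to its bidual iff it is torsion free. -/
theorem dual_eval_injective_iff_isTorsionFree :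
    Function.Injective (Module.Dual.eval R M) ↔ Module.IsTorsionFree R M := by
  refine ⟨fun h => h.moduleIsTorsionFree _ fun r m => map_smul _ r m, fun _ => ?_⟩
  obtain ⟨n, f, hf⟩ := exists_injective_pi_of_isTorsionFree R M
  intro x y h
  refine hf (funext fun i => ?_)
  exact LinearMap.congr_fun h ((LinearMap.proj i).comp f)

end GrothLib
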