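import Groth.Agent.Lib.TorsionFree.Basic
import Mathlib.RingTheory.Localization.Integer
import Mathlib.RingTheory.Flat.Basic
import Mathlib.RingTheory.Localization.FractionRing
import Mathlib.RingTheory.Flat.Localization
import Mathlib.LinearAlgebra.FreeModule.Finite.Basic
import Mathlib.RingTheory.Noetherian.Basic
import Mathlib.LinearAlgebra.TensorProduct.Tower

/-!
Reflexive modules over a domain: kernels of maps from reflexive to torsion-free modules, and the
characterisation as second syzygies.
-/

set_option autoImplicit false
universe u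

namespace GrothLib.TorsionFree

open TensorProduct

variable {R : Type u} [CommRing R] [IsDomain R]

/-- A functional on a submodule of a finite module extends after multiplying by a nonzero scalar. -/
theorem exists_smul_extend {M N : Type u} [AddCommGroup M] [Module R M] [AddCommGroup N] [Module R N]
    [Module.Finite R N] (f : M →ₗ[R] N) (hf : Function.Injective f) (φ : M →ₗ[R] R) :
    ∃ (c : R) (ψ : N →ₗ[R] R), c ≠ 0 ∧ ψ.comp f = c • φ := by
  classical
  let K := FractionRing R
  have hfK : LinearMap.ker (f.baseChange K) = ⊥ := by
    rw [LinearMap.ker_eq_bot]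
    exact Module.Flat.lTensor_preserves_injective_linearMap f hf
  obtain ⟨l, hl⟩ := LinearMap.exists_leftInverse_of_injective (f.baseChange K) hfK
  let ψK : N →ₗ[R] K := ((TensorProduct.AlgebraTensorModule.rid R K K).toLinearMap.restrictScalars R).comp
    (((φ.baseChange K).restrictScalars R).comp ((l.restrictScalars R).comp (TensorProduct.mk R K N 1)))
  have hψK : ∀ m, ψK (f m) = algebraMap R K (φ m) := fun m => by
    have h := LinearMap.congr_fun hl ((1 : K) ⊗ₜ m)
    simp only [LinearMap.comp_apply, LinearMap.baseChange_tmul, LinearMap.id_apply] at h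
    simp [ψK, h, Algebra.smul_def]
  obtain ⟨k, v, hv⟩ := Module.Finite.exists_fin (R := R) (M := N)
  obtain ⟨c, hc⟩ := IsLocalization.exist_integer_multiples_of_finset (nonZeroDivisors R)
    (Finset.univ.image fun i => ψK (v i))
  have hmem : ∀ n, (c : R) • ψK n ∈ LinearMap.range (Algebra.linearMap R K) := by
    intro n
    have hn : n ∈ Submodule.span R (Set.range v) := hv ▸ Submodule.mem_top
    induction hn using Submodule.span_induction with
    | mem x hx =>
      obtain ⟨i, rfl⟩ := hx
      exact hc _ (Finset.mem_image_of_mem _ (Finset.mem_univ i))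
    | zero => simp
    | add x y _ _ hx hy => rw [map_add, smul_add]; exact Submodule.add_mem _ hx hy
    | smul r x _ hx => rw [map_smul, smul_comm]; exact Submodule.smul_mem _ _ hx
  let e := LinearEquiv.ofInjective (Algebra.linearMap R K) (IsFractionRing.injective R K)
  refine ⟨c, e.symm.toLinearMap.comp (((c : R) • ψK).codRestrict _ hmem), nonZeroDivisors.ne_zero c.2, ?_⟩
  refine LinearMap.ext fun m => IsFractionRing.injective R K ?_
  show Algebra.linearMap R K (e.symm ⟨(c : R) • ψK (f m), hmem _⟩) = _
  rw [show Algebra.linearMap R K (e.symm ⟨(c : R) • ψK (f m), hmem _⟩) = (c : R) • ψK (f m) from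
    congrArg Subtype.val (e.apply_symm_apply ⟨(c : R) • ψK (f m), hmem _⟩), hψK]
  simp [Algebra.smul_def]

/-- The kernel of a map from a finite reflexive module to a finite torsion free module is reflexive. -/
theorem isReflexive_of_exact {M M' M'' : Type u} [AddCommGroup M] [Module R M] [AddCommGroup M'] [Module R M']
    [Module.Finite R M'] [AddCommGroup M''] [Module R M''] [Module.Finite R M''] (f : M →ₗ[R] M')
    (g : M' →ₗ[R] M'') (hf : Function.Injective f) (hfg : Function.Exact f g) [Module.IsReflexive R M']
    [Module.IsTorsionFree R M''] : Module.IsReflexive R M := by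
  have hdual : Function.Injective f.dualMap.dualMap := by
    rw [injective_iff_map_eq_zero]
    intro η hη
    refine LinearMap.ext fun φ => ?_
    obtain ⟨c, ψ, hc, hψ⟩ := exists_smul_extend f hf φ
    have h := LinearMap.congr_fun hη ψ
    change η (ψ.comp f) = 0 at h
    rw [hψ, map_smul, smul_eq_mul] at h
    exact (mul_eq_zero.1 h).resolve_left hc
  constructor
  constructor
  · intro x y h
    refine hf ((Module.bijective_dual_eval R M').1 (LinearMap.ext fun φ => ?_))
    exact LinearMap.congr_fun h (φ.comp f)
  · intro ξ
    obtain ⟨m', hm'⟩ := (Module.bijective_dual_eval R M').2 (f.dualMap.dualMap ξ)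
    have hg : g m' = 0 := by
      refine (GrothLib.dual_eval_injective_iff_isTorsionFree R M'').2 inferInstance ?_
      rw [map_zero]
      refine LinearMap.ext fun θ => ?_
      have h := LinearMap.congr_fun hm' (θ.comp g)
      change θ (g m') = ξ ((θ.comp g).comp f) at h
      show θ (g m') = 0
      rw [h, LinearMap.comp_assoc, hfg.linearMap_comp_eq_zero, LinearMap.comp_zero, map_zero]
    obtain ⟨m, rfl⟩ := (hfg m').1 hg
    refine ⟨m, hdual ?_⟩
    rw [← hm']
    rfl

/-- A finite module over a Noetherian domain is reflexive iff it is a kernel of a map from a finite free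
module to a torsion-free one. -/
theorem isReflexive_iff [IsNoetherianRing R] (M : Type u) [AddCommGroup M] [Module R M] [Module.Finite R M] :
    Module.IsReflexive R M ↔ ∃ (n : ℕ) (f : M →ₗ[R] (Fin n → R)), Function.Injective f ∧
      Module.IsTorsionFree R ((Fin n → R) ⧸ LinearMap.range f) := by
  constructor
  · intro _
    have : IsNoetherian R M := isNoetherian_of_isNoetherianRing_of_finite R M
    have : Module.Finite R (Module.Dual R M) := by
      obtain ⟨k, π, hπ⟩ := Module.Finite.exists_fin' R M
      have : Module.Finite R (Module.Dual R (Fin k → R)) := inferInstance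
      exact Module.Finite.of_injective π.dualMap (LinearMap.dualMap_injective_of_surjective hπ)
    obtain ⟨n, π, hπ⟩ := Module.Finite.exists_fin' R (Module.Dual R M)
    let b := (Pi.basisFun R (Fin n)).dualBasis
    let e : Module.Dual R (Fin n → R) ≃ₗ[R] (Fin n → R) := b.equivFun
    let f : M →ₗ[R] (Fin n → R) := e.toLinearMap.comp (π.dualMap.comp (Module.Dual.eval R M))
    have hf : Function.Injective f :=
      e.injective.comp ((LinearMap.dualMap_injective_of_surjective hπ).comp (Module.bijective_dual_eval R M).1)
    refine ⟨n, f, hf, ?_⟩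
    constructor
    intro c hc x y hxy
    obtain ⟨x, rfl⟩ := Submodule.Quotient.mk_surjective _ x
    obtain ⟨y, rfl⟩ := Submodule.Quotient.mk_surjective _ y
    change c • (Submodule.Quotient.mk x : (Fin n → R) ⧸ LinearMap.range f) = c • Submodule.Quotient.mk y at hxy
    rw [← Submodule.Quotient.mk_smul, ← Submodule.Quotient.mk_smul, Submodule.Quotient.eq, ← smul_sub] at hxy
    rw [Submodule.Quotient.eq]
    obtain ⟨m, hm⟩ := hxy
    have hker : LinearMap.ker π ≤ LinearMap.ker (e.symm (x - y)) := by
      intro z hz
      have h1 : c • e.symm (x - y) = π.dualMap (Module.Dual.eval R M m) := by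
        rw [← map_smul]
        exact e.symm_apply_eq.2 hm.symm
      have h2 := LinearMap.congr_fun h1 z
      change c • (e.symm (x - y) z) = π z m at h2
      rw [LinearMap.mem_ker.1 hz, LinearMap.zero_apply, smul_eq_mul] at h2
      exact LinearMap.mem_ker.2 ((mul_eq_zero.1 h2).resolve_left hc.ne_zero)
    let ξ : Module.Dual R (Module.Dual R M) :=
      ((LinearMap.ker π).liftQ (e.symm (x - y)) hker).comp (π.quotKerEquivOfSurjective hπ).symm.toLinearMap
    obtain ⟨m₀, hm₀⟩ := (Module.bijective_dual_eval R M).2 ξ
    refine ⟨m₀, e.symm.injective ?_⟩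
    show e.symm (e (π.dualMap (Module.Dual.eval R M m₀))) = _
    rw [e.symm_apply_apply, hm₀]
    refine LinearMap.ext fun z => ?_
    show (LinearMap.ker π).liftQ (e.symm (x - y)) hker ((π.quotKerEquivOfSurjective hπ).symm (π z)) = _
    rw [show (π.quotKerEquivOfSurjective hπ).symm (π z) = Submodule.Quotient.mk z from
      (π.quotKerEquivOfSurjective hπ).symm_apply_eq.2 rfl]
    rfl
  · rintro ⟨n, f, hf, _⟩
    exact isReflexive_of_exact f (LinearMap.range f).mkQ hf (LinearMap.exact_iff.2 (by simp))

end GrothLib.TorsionFree
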