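import Mathlib.Algebra.Module.LocalizedModule.Basic
import Mathlib.RingTheory.Ideal.Maps

/-!
If a multiplicative set acts regularly on a module, passing to the localised module does not change the
set of annihilators of elements.
-/

set_option autoImplicit false
universe u

namespace GrothLib

variable {R : Type u} [CommRing R] (S : Submonoid R) (M : Type u) [AddCommGroup M] [Module R M]

theorem annihilator_mkLinearMap (hS : ∀ s ∈ S, IsSMulRegular M s) (m : M) (s : S) :
    (Submodule.span R {LocalizedModule.mk m s}).annihilator = (Submodule.span R {m}).annihilator := by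
  ext r
  rw [Submodule.mem_annihilator_span_singleton, Submodule.mem_annihilator_span_singleton,
    LocalizedModule.smul'_mk, ← LocalizedModule.zero_mk s, LocalizedModule.mk_eq]
  refine ⟨?_, fun h => ⟨1, by rw [h]⟩⟩
  rintro ⟨u, hu⟩
  simp only [smul_zero, Submonoid.smul_def] at hu
  exact (hS _ s.2).right_eq_zero_of_smul ((hS _ u.2).right_eq_zero_of_smul hu)

theorem exists_annihilator_eq_iff (hS : ∀ s ∈ S, IsSMulRegular M s) (P : Ideal R → Prop) :
    (∃ m : M, P (Submodule.span R {m}).annihilator) ↔
      ∃ x : LocalizedModule S M, P (Submodule.span R {x}).annihilator := by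
  refine ⟨fun ⟨m, hm⟩ => ⟨LocalizedModule.mk m 1, by rwa [annihilator_mkLinearMap S M hS]⟩, ?_⟩
  rintro ⟨x, hx⟩
  induction x using LocalizedModule.induction_on with
  | h m s => exact ⟨m, by rwa [annihilator_mkLinearMap S M hS] at hx⟩

end GrothLib
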